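import Mathlib.RingTheory.LocalRing.ResidueField.Ideal
import Mathlib.LinearAlgebra.TensorProduct.Pi
import Mathlib.LinearAlgebra.Matrix.NonsingularInverse
import Mathlib.RingTheory.Flat.EquationalCriterion
import Mathlib.RingTheory.TensorProduct.Maps
import Mathlib.Topology.Constructible
import Mathlib.RingTheory.Spectrum.Prime.Noetherian
import Mathlib.LinearAlgebra.Dimension.Constructions

/-! Ranks of families of vectors and of endomorphisms on the fibres over a ring. -/

noncomputable section

universe u

open TensorProduct

namespace Groth.Agent.ZH85.RankConstr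

variable {A : Type u} [CommRing A] {ι : Type} [Fintype ι] [DecidableEq ι]

/-- The reduction of a vector at a prime. -/
def red (p : PrimeSpectrum A) (w : ι → A) : ι → p.asIdeal.ResidueField :=
  fun i => algebraMap A p.asIdeal.ResidueField (w i)

theorem exists_integral_row (p : PrimeSpectrum A) (h : ι → p.asIdeal.ResidueField) :
    ∃ (c : p.asIdeal.ResidueField) (a : ι → A), c ≠ 0 ∧ red p a = c • h := by
  obtain ⟨b, hb⟩ := IsLocalization.exist_integer_multiples_of_finite
    (nonZeroDivisors (A ⧸ p.asIdeal)) (S := p.asIdeal.ResidueField) h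
  choose r hr using hb
  choose a ha using fun i => Ideal.Quotient.mk_surjective (r i)
  refine ⟨algebraMap (A ⧸ p.asIdeal) _ (b : A ⧸ p.asIdeal), a,
    IsFractionRing.to_map_ne_zero_of_mem_nonZeroDivisors b.2, funext fun i => ?_⟩
  show algebraMap A p.asIdeal.ResidueField (a i) = _
  rw [IsScalarTower.algebraMap_apply A (A ⧸ p.asIdeal) p.asIdeal.ResidueField, Ideal.Quotient.algebraMap_eq, ha, hr,
    Algebra.smul_def]
  rfl

theorem isOpen_le_rank (W : Set (ι → A)) (n : ℕ) :
    IsOpen {p : PrimeSpectrum A |
      n ≤ Module.finrank p.asIdeal.ResidueField (Submodule.span p.asIdeal.ResidueField (red p '' W))} := by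
  classical
  rw [isOpen_iff_forall_mem_open]
  intro p hp
  obtain ⟨b, hbsub, hbspan, hbli⟩ := exists_linearIndependent p.asIdeal.ResidueField (red p '' W)
  haveI : Finite b := hbli.finite
  haveI := Fintype.ofFinite b
  have hcard : n ≤ Fintype.card b := by
    have hr : Submodule.span p.asIdeal.ResidueField (Set.range ((↑) : b → _)) = Submodule.span _ (red p '' W) := by
      rw [Subtype.range_coe, hbspan]
    have h := finrank_span_eq_card hbli
    rw [hr] at h
    exact hp.trans h.le
  obtain ⟨emb⟩ : Nonempty (Fin n ↪ b) := Function.Embedding.nonempty_of_card_le (by simpa using hcard)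
  choose w hwW hw using fun a : Fin n => hbsub (emb a).2
  let G : Matrix ι (Fin n) A := Matrix.of fun i a => w a i
  have hli : LinearIndependent p.asIdeal.ResidueField (G.map (algebraMap A p.asIdeal.ResidueField)).col := by
    have : (G.map (algebraMap A p.asIdeal.ResidueField)).col = fun a => ((emb a : b) : ι → _) := by
      funext a; exact hw a
    rw [this]
    exact hbli.comp emb emb.injective
  obtain ⟨g, hg⟩ := LinearMap.exists_leftInverse_of_injective
    (Matrix.toLin' (G.map (algebraMap A p.asIdeal.ResidueField)))
    (LinearMap.ker_eq_bot.2 (Matrix.mulVec_injective_iff.2 hli))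
  let H : Matrix (Fin n) ι p.asIdeal.ResidueField := LinearMap.toMatrix' g
  have hH : H * G.map (algebraMap A p.asIdeal.ResidueField) = 1 := by
    rw [← LinearMap.toMatrix'_id, ← hg, LinearMap.toMatrix'_comp, LinearMap.toMatrix'_toLin']
  choose c a hc ha using fun x : Fin n => exists_integral_row p (H x)
  let L : Matrix (Fin n) ι A := Matrix.of a
  have hL : (L.map (algebraMap A p.asIdeal.ResidueField)) = Matrix.diagonal c * H := by
    ext x i
    rw [Matrix.diagonal_mul]
    exact congrFun (ha x) i
  let d := (L * G).det
  refine ⟨(PrimeSpectrum.basicOpen d : Set _), fun q hq => ?_, (PrimeSpectrum.basicOpen d).2, ?_⟩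
  · show n ≤ _
    have hdq : algebraMap A q.asIdeal.ResidueField d ≠ 0 := by
      rw [Ne, Ideal.algebraMap_residueField_eq_zero]; exact hq
    have hdet : IsUnit ((L * G).map (algebraMap A q.asIdeal.ResidueField)).det := by
      rw [← RingHom.mapMatrix_apply, ← RingHom.map_det]
      exact Ne.isUnit hdq
    have hinj : Function.Injective (G.map (algebraMap A q.asIdeal.ResidueField)).mulVec := by
      intro x y hxy
      apply Matrix.mulVec_injective_of_isUnit ((Matrix.isUnit_iff_isUnit_det _).2 hdet)
      rw [Matrix.map_mul, ← Matrix.mulVec_mulVec, ← Matrix.mulVec_mulVec, hxy]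
    have hli' := Matrix.mulVec_injective_iff.1 hinj
    calc n = Fintype.card (Fin n) := (Fintype.card_fin n).symm
      _ = Module.finrank q.asIdeal.ResidueField
          (Submodule.span q.asIdeal.ResidueField (Set.range (G.map (algebraMap A q.asIdeal.ResidueField)).col)) :=
        (finrank_span_eq_card hli').symm
      _ ≤ _ := Submodule.finrank_mono (Submodule.span_mono (by
        rintro _ ⟨x, rfl⟩
        exact ⟨w x, hwW x, rfl⟩))
  · show d ∉ p.asIdeal
    rw [← Ideal.algebraMap_residueField_eq_zero, RingHom.map_det, RingHom.mapMatrix_apply, Matrix.map_mul,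
      hL, Matrix.mul_assoc, hH, Matrix.mul_one, Matrix.det_diagonal]
    exact Finset.prod_ne_zero_iff.2 fun x _ => hc x

theorem isConstructible_rank_eq [IsNoetherianRing A] (W : Set (ι → A)) (n : ℕ) :
    Topology.IsConstructible {p : PrimeSpectrum A |
      Module.finrank p.asIdeal.ResidueField (Submodule.span p.asIdeal.ResidueField (red p '' W)) = n} := by
  have hc : ∀ U : Set (PrimeSpectrum A), IsOpen U → Topology.IsConstructible U := fun U hU =>
    IsRetrocompact.isConstructible hU (fun V _ _ => TopologicalSpace.NoetherianSpace.isCompact _)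
  convert (hc _ (isOpen_le_rank W n)).sdiff (hc _ (isOpen_le_rank W (n + 1))) using 1
  ext p
  simp only [Set.mem_setOf_eq, Set.mem_diff]
  omega

variable {Q : Type u} [AddCommGroup Q] [Module A Q] [Module.Finite A Q] [Module.Flat A Q]

variable (A Q) in
/-- Constructibility of the rank of a family of endomorphisms on the fibres. -/
theorem isConstructible_rank_endos [IsNoetherianRing A] {S : Type u} (T : S → Q →ₗ[A] Q) (n : ℕ) :
    Topology.IsConstructible {p : PrimeSpectrum A |
      Module.finrank p.asIdeal.ResidueField
        (Submodule.span p.asIdeal.ResidueField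
          (Set.range fun s : S => LinearMap.baseChange p.asIdeal.ResidueField (T s))) = n} := by
  classical
  haveI : Module.FinitePresentation A Q := Module.finitePresentation_of_finite A Q
  haveI : Module.Projective A Q := Module.Flat.projective_of_finitePresentation
  obtain ⟨m, π, j, -, -, hπj⟩ := Module.Finite.exists_comp_eq_id_of_projective A Q
  let v : S → (Fin m × Fin m → A) := fun s ij => j (T s (π (Pi.single ij.2 1))) ij.1
  convert isConstructible_rank_eq (Set.range v) n using 1
  ext p
  let K := p.asIdeal.ResidueField
  let e : K ⊗[A] (Fin m → A) ≃ₗ[K] (Fin m → K) := TensorProduct.piScalarRight A K K (Fin m)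
  let j' : K ⊗[A] Q →ₗ[K] (Fin m → K) := e.toLinearMap ∘ₗ j.baseChange K
  let π' : (Fin m → K) →ₗ[K] K ⊗[A] Q := π.baseChange K ∘ₗ e.symm.toLinearMap
  have hid : π' ∘ₗ j' = LinearMap.id := by
    refine LinearMap.ext fun x => ?_
    show π.baseChange K (e.symm (e (j.baseChange K x))) = x
    rw [e.symm_apply_apply, ← LinearMap.comp_apply, ← LinearMap.baseChange_comp, hπj, LinearMap.baseChange_id]
    rfl
  let Φ : (K ⊗[A] Q →ₗ[K] K ⊗[A] Q) →ₗ[K] (Fin m × Fin m → K) :=
    { toFun := fun f ij => j' (f (π' (Pi.single ij.2 1))) ij.1
      map_add' := fun f g => funext fun ij => by simp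
      map_smul' := fun c f => funext fun ij => by simp }
  have hΦ : Function.Injective Φ := by
    intro f g hfg
    have heq : j' ∘ₗ f ∘ₗ π' = j' ∘ₗ g ∘ₗ π' := (Pi.basisFun K (Fin m)).ext fun b => funext fun a => by
      rw [Pi.basisFun_apply]
      exact congrFun hfg (a, b)
    refine LinearMap.ext fun x => ?_
    have h1 : ∀ y, π' (j' y) = y := fun y => LinearMap.congr_fun hid y
    have h2 := congrArg π' (LinearMap.congr_fun heq (j' x))
    simp only [LinearMap.comp_apply, h1] at h2
    exact h2
  have hbase : ∀ s, Φ ((T s).baseChange K) = red p (v s) := fun s => funext fun ij => by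
    have he : e.symm (Pi.single ij.2 1) = (1 : K) ⊗ₜ[A] Pi.single ij.2 (1 : A) := by
      rw [e.symm_apply_eq]
      refine funext fun i => ?_
      rw [TensorProduct.piScalarRight_apply, TensorProduct.piScalarRightHom_tmul]
      rcases eq_or_ne i ij.2 with rfl | hi
      · simp
      · simp [hi]
    show e (j.baseChange K ((T s).baseChange K (π.baseChange K (e.symm (Pi.single ij.2 1))))) ij.1 = _
    rw [he, LinearMap.baseChange_tmul, LinearMap.baseChange_tmul, LinearMap.baseChange_tmul,
      TensorProduct.piScalarRight_apply, TensorProduct.piScalarRightHom_tmul]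
    simp [red, v, Algebra.smul_def, K]
  have hset : red p '' Set.range v = Φ '' Set.range fun s : S => (T s).baseChange K := by
    rw [← Set.range_comp, ← Set.range_comp]
    exact congrArg Set.range (funext fun s => (hbase s).symm)
  simp only [Set.mem_setOf_eq]
  rw [hset, ← Submodule.map_span, (Submodule.equivMapOfInjective Φ hΦ _).finrank_eq]

end Groth.Agent.ZH85.RankConstr
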