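import Groth.Agent.ZH85.HilbZeta.Decomp
import Mathlib.RingTheory.PowerSeries.Basic

/-!
# Generating series of the Hilbert schemes cut along the support
-/

set_option autoImplicit false
set_option linter.style.haveILetI false
set_option backward.isDefEq.respectTransparency false
set_option backward.isDefEq.respectTransparency.types false

universe u

open CategoryTheory CategoryTheory.Limits AlgebraicGeometry TopologicalSpace

namespace Groth.Agent.ZH85.HilbZeta

noncomputable section

variable {k : Type u} [Field k] {X : Scheme.{u}} (f : X ⟶ Spec (CommRingCat.of k))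
  {H : ℕ → Over (Spec (CommRingCat.of k))} (Z : ∀ d, HilbD.Obj f d (H d))

/-- A finite locally free family of degree zero is empty. -/
theorem isEmpty_obj_zero {T : Over (Spec (CommRingCat.of k))} (I : HilbD.Obj f 0 T) :
    IsEmpty I.1.subscheme := by
  haveI : IsFinite (I.1.subschemeι ≫ PicF.XTproj f T) := I.2.1.1
  haveI : Flat (I.1.subschemeι ≫ PicF.XTproj f T) := I.2.1.2.1
  refine ⟨fun z => ?_⟩
  have h := Scheme.Hom.one_le_finrank_map (I.1.subschemeι ≫ PicF.XTproj f T) z
  rw [I.2.2] at h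
  omega

theorem obj_zero_eq_top {T : Over (Spec (CommRingCat.of k))} (I : HilbD.Obj f 0 T) : I.1 = ⊤ := by
  haveI := isEmpty_obj_zero f I
  rw [← Scheme.IdealSheafData.support_eq_bot_iff]
  refine SetLike.coe_injective ?_
  rw [← I.1.range_subschemeι, Closeds.coe_bot, Set.range_eq_empty]

/-- The empty family over the base field. -/
theorem deg_zero_top :
    Mor2.IsFinLocFreeOfDeg 0
      ((⊤ : (PicF.XT f (Over.mk (𝟙 (Spec (CommRingCat.of k))))).IdealSheafData).subschemeι ≫
        PicF.XTproj f (Over.mk (𝟙 (Spec (CommRingCat.of k))))) := by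
  let J : (PicF.XT f (Over.mk (𝟙 (Spec (CommRingCat.of k))))).IdealSheafData := ⊤
  haveI : IsEmpty J.subscheme := ⟨fun z => by
    have := Set.mem_range_self (f := J.subschemeι) z
    rw [Scheme.IdealSheafData.range_subschemeι, Scheme.IdealSheafData.support_top] at this
    exact this⟩
  let g : J.subscheme ⟶ Spec (CommRingCat.of k) :=
    J.subschemeι ≫ PicF.XTproj f (Over.mk (𝟙 (Spec (CommRingCat.of k))))
  change Mor2.IsFinLocFreeOfDeg 0 g
  refine ⟨⟨inferInstance, inferInstance, inferInstance⟩, fun y => ?_⟩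
  obtain ⟨B, _, _, _, e, -, hB⟩ := AbSchX.FinRank.exists_alg g
  haveI : IsEmpty (PrimeSpectrum B) := Function.isEmpty (e.hom : Spec (CommRingCat.of B) → J.subscheme)
  haveI : Subsingleton B := PrimeSpectrum.isEmpty_iff_subsingleton.mp ‹_›
  rw [hB, Module.finrank_zero_of_subsingleton]

theorem supp_zero (A : Set X) : Supp f Z 0 A = Set.univ :=
  Set.eq_univ_of_forall fun _ z => ((isEmpty_obj_zero f (Z 0)).false z).elim

theorem supp_empty {d : ℕ} (hd : d ≠ 0) : Supp f Z d (∅ : Set X) = ∅ := by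
  refine Set.eq_empty_of_forall_notMem fun h hh => ?_
  obtain ⟨⟨hfin, hfl, hfp⟩, hrk⟩ := (Z d).2
  haveI : IsFinite ((Z d).1.subschemeι ≫ PicF.XTproj f (H d)) := hfin
  haveI : Flat ((Z d).1.subschemeι ≫ PicF.XTproj f (H d)) := hfl
  haveI : Surjective ((Z d).1.subschemeι ≫ PicF.XTproj f (H d)) :=
    (Scheme.Hom.one_le_finrank_iff_surjective _).1 fun y => by
      show 1 ≤ _
      rw [hrk y]
      exact Nat.one_le_iff_ne_zero.2 hd
  obtain ⟨z, hz⟩ := ((Z d).1.subschemeι ≫ PicF.XTproj f (H d)).surjective h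
  exact hh z hz

theorem isClosed_supp (d : ℕ) {A : Set X} (hA : IsClosed A) : IsClosed (Supp f Z d A) := by
  obtain ⟨⟨hfin, hfl, hfp⟩, hrk⟩ := (Z d).2
  let π := (Z d).1.subschemeι ≫ PicF.XTproj f (H d)
  let φ := (Z d).1.subschemeι ≫ pullback.fst f (H d).hom
  haveI : Flat π := hfl
  haveI : LocallyOfFinitePresentation π := hfp
  have e : (Supp f Z d A)ᶜ = π '' (φ ⁻¹' Aᶜ) := by
    ext h
    constructor
    · intro hh
      rw [Set.mem_compl_iff] at hh
      simp only [Supp, Set.mem_ofPred_eq, not_forall] at hh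
      obtain ⟨z, hz, hza⟩ := hh
      exact ⟨z, hza, hz⟩
    · rintro ⟨z, hza, hz⟩ hh
      exact hza (hh z hz)
  rw [← isOpen_compl_iff, e]
  exact π.isOpenMap _ (hA.isOpen_compl.preimage φ.continuous)

/-- The locus over a closed set, with its reduced structure. -/
abbrev suppι {A : Set X} (hA : IsClosed A) (d : ℕ) :
    (Scheme.IdealSheafData.vanishingIdeal (⟨Supp f Z d A, isClosed_supp f Z d hA⟩ : Closeds _)).subscheme ⟶
      (H d).left :=
  (Scheme.IdealSheafData.vanishingIdeal (⟨Supp f Z d A, isClosed_supp f Z d hA⟩ : Closeds _)).subschemeι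

theorem range_suppι {A : Set X} (hA : IsClosed A) (d : ℕ) :
    Set.range (suppι f Z hA d) = Supp f Z d A := by
  rw [Scheme.IdealSheafData.range_subschemeι, Scheme.IdealSheafData.coe_support_vanishingIdeal]
  rfl

variable [∀ d, LocallyOfFiniteType (H d).hom] [∀ d, QuasiCompact (H d).hom]

/-- The generating series over a closed set. -/
def series {A : Set X} (hA : IsClosed A) : PowerSeries (K0Var.K (Spec (CommRingCat.of k))) :=
  PowerSeries.mk fun d => K0Var.cl (suppι f Z hA d ≫ (H d).hom)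

variable (hZ : ∀ d, HilbD.IsUniversal f d (H d) (Z d))

include hZ in
/-- The Hilbert scheme of zero points is the point. -/
theorem cl_zero_points : K0Var.cl (H 0).hom = 1 := by
  obtain ⟨v, -, -⟩ := hZ 0 (Over.mk (𝟙 (Spec (CommRingCat.of k)))) ⟨_, deg_zero_top f⟩
  have hv : v.left ≫ (H 0).hom = 𝟙 _ := Over.w v
  let w : H 0 ⟶ H 0 := Over.homMk ((H 0).hom ≫ v.left) (by rw [Category.assoc, hv]; exact Category.comp_id _)
  have hw : w = 𝟙 _ := by
    refine (hZ 0 (H 0) (Z 0)).unique ?_ ?_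
    · exact (obj_zero_eq_top f ⟨_, HilbDLib.isFinLocFreeOfDeg_pull f w _ (Z 0).2⟩).trans
        (obj_zero_eq_top f (Z 0)).symm
    · exact (obj_zero_eq_top f ⟨_, HilbDLib.isFinLocFreeOfDeg_pull f (𝟙 _) _ (Z 0).2⟩).trans
        (obj_zero_eq_top f (Z 0)).symm
  have hw' : (H 0).hom ≫ v.left = 𝟙 _ := congrArg CommaMorphism.left hw
  rw [K0Var.cl_congr (H 0).hom (𝟙 (Spec (CommRingCat.of k))) ⟨(H 0).hom, v.left, hw', hv⟩ (Category.comp_id _),
    K0Var.cl_one]

include hZ in
theorem series_empty : series f Z (isClosed_empty (X := X)) = 1 := by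
  refine PowerSeries.ext fun d => ?_
  rw [series, PowerSeries.coeff_mk, PowerSeries.coeff_one]
  split_ifs with hd
  · subst hd
    rw [cl_closed_surjective (H 0).hom (suppι f Z isClosed_empty 0)
      (Set.range_eq_univ.1 (by rw [range_suppι, supp_zero])) _ rfl]
    exact cl_zero_points f Z hZ
  · haveI : IsEmpty (Scheme.IdealSheafData.vanishingIdeal
        (⟨Supp f Z d (∅ : Set X), isClosed_supp f Z d isClosed_empty⟩ : Closeds _)).subscheme := ⟨fun z => by
      have := (supp_empty f Z hd).le ((range_suppι f Z isClosed_empty d).le (Set.mem_range_self z))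
      exact this⟩
    exact cl_zero_of_isEmpty _

variable [LocallyOfFiniteType f] [IsSeparated f] {A B C : Set X}
  {HA HB HC : ℕ → Scheme.{u}} (jA : ∀ d, HA d ⟶ (H d).left) (jB : ∀ d, HB d ⟶ (H d).left)
  (jC : ∀ d, HC d ⟶ (H d).left)
  [∀ d, Mono (jA d)] [∀ d, Mono (jB d)] [∀ d, Mono (jC d)]
  [∀ d, LocallyOfFiniteType (jA d)] [∀ d, LocallyOfFiniteType (jB d)] [∀ d, LocallyOfFiniteType (jC d)]
  [∀ d, QuasiCompact (jA d)] [∀ d, QuasiCompact (jB d)] [∀ d, QuasiCompact (jC d)]

include hZ in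
/-- **The product formula.** -/
theorem series_mul (hjA : ∀ d, Set.range (jA d) = Supp f Z d A) (hjB : ∀ d, Set.range (jB d) = Supp f Z d B)
    (hjC : ∀ d, Set.range (jC d) = Supp f Z d C) (hAB : Disjoint A B) (hC : A ∪ B = C) :
    PowerSeries.mk (fun d => K0Var.cl (jC d ≫ (H d).hom)) =
      PowerSeries.mk (fun d => K0Var.cl (jA d ≫ (H d).hom)) *
        PowerSeries.mk (fun d => K0Var.cl (jB d ≫ (H d).hom)) := by
  refine PowerSeries.ext fun d => ?_
  rw [PowerSeries.coeff_mk, PowerSeries.coeff_mul, cl_supp f Z hAB jA jB hjA hjB hZ hC jC hjC d]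
  exact Finset.sum_congr rfl fun ab _ => by rw [PowerSeries.coeff_mk, PowerSeries.coeff_mk]

include hZ in
/-- Cutting along a set and its complement. -/
theorem series_total (hjA : ∀ d, Set.range (jA d) = Supp f Z d A) (hjB : ∀ d, Set.range (jB d) = Supp f Z d B)
    (hAB : Disjoint A B) (hC : A ∪ B = Set.univ) :
    PowerSeries.mk (fun d => K0Var.cl (H d).hom) =
      PowerSeries.mk (fun d => K0Var.cl (jA d ≫ (H d).hom)) *
        PowerSeries.mk (fun d => K0Var.cl (jB d ≫ (H d).hom)) := by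
  rw [← series_mul f Z hZ jA jB (fun d => 𝟙 (H d).left) hjA hjB
    (fun d => (Set.range_eq_univ.2 fun x => ⟨x, rfl⟩).trans (supp_univ f Z d).symm) hAB hC]
  refine PowerSeries.ext fun d => ?_
  rw [PowerSeries.coeff_mk, PowerSeries.coeff_mk]
  simp only [Category.id_comp]

end

end Groth.Agent.ZH85.HilbZeta
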