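import Groth.Prelude.Def_K0Var
import Groth.Agent.S0414
import Groth.Agent.H23.RedSub
import Mathlib.AlgebraicGeometry.Morphisms.FlatMono

/-!
# Classes in the Grothendieck ring of pieces given by monomorphisms

If finitely many monomorphisms of schemes of finite type over a field have images partitioning the
target, the class of the target is the sum of the classes of the sources (by generic flatness, a
monomorphism is an isomorphism over a dense open of the reduced image).
-/

set_option autoImplicit false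
set_option linter.style.haveILetI false

universe u

open CategoryTheory CategoryTheory.Limits AlgebraicGeometry TopologicalSpace

namespace Groth.Agent.ZH85.HilbZeta

noncomputable section

variable {k : Type u} [Field k]

/-- A surjective closed immersion does not change the class. -/
theorem cl_closed_surjective {Y X : Scheme.{u}} (f : X ⟶ Spec (CommRingCat.of k)) [LocallyOfFiniteType f] [QuasiCompact f]
    (i : Y ⟶ X) [IsClosedImmersion i] (hi : Function.Surjective i) (g : Y ⟶ Spec (CommRingCat.of k)) (hg : i ≫ f = g)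
    [LocallyOfFiniteType g] [QuasiCompact g] : K0Var.cl g = K0Var.cl f := by
  subst hg
  let E := Scheme.emptyTo X
  haveI : QuasiCompact E := ⟨fun U _ _ => by
    rw [Set.eq_empty_of_isEmpty (E ⁻¹' U)]
    exact isCompact_empty⟩
  rw [K0Var.cl_scissor f i E (by rw [Set.range_eq_empty E, Set.compl_empty]; exact hi.range_eq)]
  have hE : K0Var.cl (E ≫ f) = 0 := by
    haveI : IsEmpty (K0Var.Gen.mk (∅ : Scheme.{u}) (E ≫ f)).X := inferInstanceAs (IsEmpty (∅ : Scheme.{u}))
    exact K0Var.Gen.cl_eq_zero_of_isEmpty _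
  rw [hE, add_zero]

theorem cl_zero_of_isEmpty {Y : Scheme.{u}} (g : Y ⟶ Spec (CommRingCat.of k)) [LocallyOfFiniteType g] [QuasiCompact g] [IsEmpty Y] :
    K0Var.cl g = 0 := by
  haveI : IsEmpty (K0Var.Gen.mk Y g).X := inferInstanceAs (IsEmpty Y)
  exact K0Var.Gen.cl_eq_zero_of_isEmpty _

variable {X : Scheme.{u}} (f : X ⟶ Spec (CommRingCat.of k)) [LocallyOfFiniteType f] [QuasiCompact f]

/-- The reduced closed subscheme cut along an open set. -/
theorem cl_open_closed (U : X.Opens) :
    K0Var.cl f = K0Var.cl ((Scheme.IdealSheafData.vanishingIdeal U.compl).subschemeι ≫ f) +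
      (haveI : IsNoetherian X := by
        haveI := LocallyOfFiniteType.isLocallyNoetherian f
        haveI : CompactSpace X := QuasiCompact.compactSpace_of_compactSpace f
        exact ⟨⟩
      K0Var.cl (U.ι ≫ f)) := by
  haveI : IsNoetherian X := by
    haveI := LocallyOfFiniteType.isLocallyNoetherian f
    haveI : CompactSpace X := QuasiCompact.compactSpace_of_compactSpace f
    exact ⟨⟩
  refine K0Var.cl_scissor f _ _ ?_
  rw [Scheme.IdealSheafData.range_subschemeι, Scheme.IdealSheafData.coe_support_vanishingIdeal, U.range_ι]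
  rfl

variable {ι : Type} [Fintype ι] {A : ι → Scheme.{u}} (m : ∀ i, A i ⟶ X) [∀ i, Mono (m i)]
  [∀ i, LocallyOfFiniteType (m i ≫ f)] [∀ i, QuasiCompact (m i ≫ f)]

/-- **Monomorphic decompositions.** -/
theorem cl_eq_sum (h : ∀ x : X, ∃! i, x ∈ Set.range (m i)) :
    K0Var.cl f = ∑ i, K0Var.cl (m i ≫ f) := by
  classical
  haveI hXn : IsNoetherian X := by
    haveI := LocallyOfFiniteType.isLocallyNoetherian f
    haveI : CompactSpace X := QuasiCompact.compactSpace_of_compactSpace f
    exact ⟨⟩
  haveI : ∀ i, LocallyOfFiniteType (m i) := fun i => locallyOfFiniteType_of_comp (m i) f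
  haveI : ∀ i, QuasiCompact (m i) := fun i => by
    haveI : CompactSpace (A i) := QuasiCompact.compactSpace_of_compactSpace (m i ≫ f)
    exact quasiCompact_of_compactSpace (m i)
  suffices key : ∀ (Z : Closeds X) (Y : Scheme.{u}) (z : Y ⟶ X) [IsClosedImmersion z] [IsReduced Y],
      Set.range z = Z → K0Var.cl (z ≫ f) = ∑ i, K0Var.cl (pullback.fst z (m i) ≫ z ≫ f) by
    let R := (Scheme.IdealSheafData.vanishingIdeal (⊤ : Closeds X))
    haveI : IsReduced R.subscheme := H23.RedSub.isReduced_vanishingIdeal _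
    have hs : Function.Surjective R.subschemeι := by
      rw [← Set.range_eq_univ, Scheme.IdealSheafData.range_subschemeι,
        Scheme.IdealSheafData.coe_support_vanishingIdeal]
      rfl
    rw [← cl_closed_surjective f R.subschemeι hs _ rfl, key ⊤ R.subscheme R.subschemeι
      (by rw [Scheme.IdealSheafData.range_subschemeι, Scheme.IdealSheafData.coe_support_vanishingIdeal])]
    refine Finset.sum_congr rfl fun i _ => ?_
    refine cl_closed_surjective (m i ≫ f) (pullback.snd R.subschemeι (m i)) ?_ _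
      (pullback.condition_assoc f).symm
    rw [← Set.range_eq_univ, Scheme.Pullback.range_snd, hs.range_eq, Set.preimage_univ]
  intro Z
  induction Z using WellFoundedLT.induction with
  | ind Z ih =>
  intro Y z _ _ hz
  let p : ∀ i, pullback z (m i) ⟶ Y := fun i => pullback.fst z (m i)
  change _ = ∑ i, K0Var.cl (p i ≫ z ≫ f)
  rcases isEmpty_or_nonempty Y with hY | hY
  · haveI : ∀ i, IsEmpty ↥(pullback z (m i)) := fun i => Function.isEmpty (p i)
    rw [cl_zero_of_isEmpty (z ≫ f), Finset.sum_eq_zero fun i _ => cl_zero_of_isEmpty (p i ≫ z ≫ f)]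
  haveI : IsNoetherian Y := by
    haveI := LocallyOfFiniteType.isLocallyNoetherian z
    haveI : CompactSpace Y := QuasiCompact.compactSpace_of_compactSpace z
    exact ⟨⟩
  choose U hU hUfl hUfp using fun i => S0414.result (p i)
  let V : Y.Opens := Finset.univ.inf U
  have hV : Dense (V : Set Y) :=
    Finset.induction_on (motive := fun s : Finset ι => Dense ((s.inf U : Y.Opens) : Set Y)) Finset.univ
      (by rw [Finset.inf_empty, Opens.coe_top]; exact dense_univ) fun a s _ hs => by
        rw [Finset.inf_insert, Opens.coe_inf]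
        exact (hU a).inter_of_isOpen_left hs (U a).2
  obtain ⟨y, hy⟩ := hV.nonempty
  obtain ⟨i, hi, hiu⟩ := h (z y)
  have hyi : y ∈ U i := (Finset.inf_le (Finset.mem_univ i) : V ≤ U i) hy
  obtain ⟨a, ha, -⟩ : ∃ a, p i a = y ∧ True := by
    obtain ⟨b, hb⟩ := hi
    obtain ⟨a, ha, -⟩ := Scheme.Pullback.exists_preimage_pullback (f := z) (g := m i) y b hb.symm
    exact ⟨a, ha, trivial⟩
  haveI := hUfl i
  haveI := hUfp i
  haveI : Mono (p i ∣_ U i) := by
    haveI : Mono ((p i ⁻¹ᵁ U i).ι ≫ p i) := mono_comp _ _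
    exact mono_of_mono_fac (morphismRestrict_ι (p i) (U i))
  haveI hoi : IsOpenImmersion (p i ∣_ U i) := IsOpenImmersion.of_flat_of_mono _
  let W : Y.Opens := ((p i ∣_ U i) ≫ (U i).ι).opensRange
  have hWr : ∀ w ∈ W, w ∈ Set.range (p i) := by
    rintro w ⟨b, rfl⟩
    exact ⟨((p i) ⁻¹ᵁ U i).ι b, by rw [← Scheme.Hom.comp_apply, ← morphismRestrict_ι]⟩
  have hyW : y ∈ W := ⟨⟨a, show p i a ∈ U i from ha ▸ hyi⟩, by
    rw [morphismRestrict_ι, Scheme.Hom.comp_apply]
    exact ha⟩
  have hWU : W ≤ U i := by
    rintro w ⟨b, rfl⟩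
    rw [Scheme.Hom.comp_apply]
    exact ((p i ∣_ U i) b).2
  -- the complement
  let R := (Scheme.IdealSheafData.vanishingIdeal W.compl)
  haveI : IsReduced R.subscheme := H23.RedSub.isReduced_vanishingIdeal _
  let Z' : Closeds X := ⟨Set.range (R.subschemeι ≫ z), (R.subschemeι ≫ z).isClosedEmbedding.isClosed_range⟩
  have hlt : Z' < Z := by
    refine lt_of_le_of_ne (fun x hx => ?_) fun he => ?_
    · obtain ⟨b, rfl⟩ := hx
      have hb : (R.subschemeι ≫ z) b ∈ Set.range z := ⟨R.subschemeι b, rfl⟩
      rw [hz] at hb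
      exact hb
    · have : z y ∈ (Z' : Set X) := he ▸ hz ▸ Set.mem_range_self y
      obtain ⟨b, hb⟩ := this
      rw [Scheme.Hom.comp_apply] at hb
      have hb' : R.subschemeι b ∈ (R.support : Set Y) := R.range_subschemeι ▸ Set.mem_range_self b
      rw [z.isClosedEmbedding.injective hb, Scheme.IdealSheafData.coe_support_vanishingIdeal] at hb'
      exact hb' hyW
  rw [cl_open_closed (z ≫ f) W]
  have hrec := ih Z' hlt R.subscheme (R.subschemeι ≫ z) rfl
  have hpiece : ∀ j, K0Var.cl (p j ≫ z ≫ f) =
      K0Var.cl (pullback.fst (R.subschemeι ≫ z) (m j) ≫ (R.subschemeι ≫ z) ≫ f) +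
        if j = i then K0Var.cl (W.ι ≫ z ≫ f) else 0 := by
    intro j
    haveI : AlgebraicGeometry.IsNoetherian (pullback z (m j)) := by
      haveI : LocallyOfFiniteType (p j ≫ z ≫ f) := inferInstance
      haveI := LocallyOfFiniteType.isLocallyNoetherian (p j ≫ z ≫ f)
      haveI : CompactSpace ↥(pullback z (m j)) := QuasiCompact.compactSpace_of_compactSpace (p j ≫ z ≫ f)
      exact ⟨⟩
    let e := pullbackRightPullbackFstIso z (m j) R.subschemeι
    have hr : Set.range (pullback.snd R.subschemeι (p j)) = (Set.range ((p j ⁻¹ᵁ W).ι))ᶜ := by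
      rw [Scheme.Pullback.range_snd, Scheme.IdealSheafData.range_subschemeι,
        Scheme.IdealSheafData.coe_support_vanishingIdeal, Scheme.Opens.range_ι]
      rfl
    rw [K0Var.cl_scissor (p j ≫ z ≫ f) (pullback.snd R.subschemeι (p j)) (p j ⁻¹ᵁ W).ι hr]
    congr 1
    · refine K0Var.cl_congr _ _ e ?_
      simp only [e, p, pullbackRightPullbackFstIso_hom_fst_assoc, Category.assoc, pullback.condition_assoc]
    · split_ifs with hj
      · subst hj
        let q := (p j ∣_ U j) ≫ (U j).ι
        have hpre : p j ⁻¹ᵁ W = p j ⁻¹ᵁ U j := by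
          refine Opens.ext (Set.ext fun b => ⟨fun hb => hWU hb, fun hb => ?_⟩)
          exact ⟨⟨b, hb⟩, by rw [morphismRestrict_ι]; rfl⟩
        refine K0Var.cl_congr _ _ ((pullback z (m j)).isoOfEq hpre ≪≫ q.isoOpensRange) ?_
        rw [Iso.trans_hom, Category.assoc,
          show q.isoOpensRange.hom ≫ W.ι ≫ z ≫ f = q ≫ z ≫ f from (Category.assoc _ _ _).symm.trans
            (congrArg (· ≫ z ≫ f) (Scheme.Hom.isoOpensRange_hom_ι q))]
        simp only [q, Category.assoc, morphismRestrict_ι_assoc, Scheme.isoOfEq_hom_ι_assoc]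
      · haveI : IsEmpty ↥(p j ⁻¹ᵁ W : Scheme.{u}) := ⟨fun b => hj (by
          obtain ⟨c, hc⟩ := hWr _ b.2
          obtain ⟨i₀, -, hu⟩ := h (z (p j b.1))
          have e1 : z (p j b.1) ∈ Set.range (m j) := ⟨pullback.snd z (m j) b.1, by
            rw [← Scheme.Hom.comp_apply, ← Scheme.Hom.comp_apply, pullback.condition]⟩
          have e2 : z (p j b.1) ∈ Set.range (m i) := ⟨pullback.snd z (m i) c, by
            rw [← hc, ← Scheme.Hom.comp_apply, ← Scheme.Hom.comp_apply, pullback.condition]⟩
          exact (hu j e1).trans (hu i e2).symm)⟩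
        exact cl_zero_of_isEmpty _
  simp only [hpiece, Finset.sum_add_distrib, Finset.sum_ite_eq', Finset.mem_univ, if_true]
  rw [← hrec]
  simp only [R, Category.assoc]

end

end Groth.Agent.ZH85.HilbZeta
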