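import Groth.Agent.HilbDLib.ClosedSub
import Groth.Agent.PicFRel.CurveDivSum
import Groth.Agent.PicFRel.CurveDivSplit
import Groth.Agent.AbSchX.FinRank
import Groth.Agent.FComplLib.IdealComap

/-!
# Closed subschemes with disjoint supports

The product of the ideals defines the disjoint union; it is finite locally free of the sum of the degrees.
-/

set_option autoImplicit false
set_option linter.style.haveILetI false

universe u

open CategoryTheory CategoryTheory.Limits AlgebraicGeometry TopologicalSpace

namespace Groth.Agent.ZH85.HilbZeta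

noncomputable section

open PicFRel

variable {P : Scheme.{u}}

theorem sup_eq_top (I J : P.IdealSheafData) (h : Disjoint (I.support : Set P) J.support) : I ⊔ J = ⊤ := by
  rw [← Scheme.IdealSheafData.support_eq_bot_iff, Scheme.IdealSheafData.support_sup]
  exact Closeds.ext (Set.disjoint_iff_inter_eq_empty.1 h)

/-- The product of ideals with disjoint supports determines the factors. -/
theorem eq_of_mul_eq {I I' J J' : P.IdealSheafData} {A B : Set P} (hAB : Disjoint A B)
    (hI : (I.support : Set P) ⊆ A) (hI' : (I'.support : Set P) ⊆ A)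
    (hJ : (J.support : Set P) ⊆ B) (hJ' : (J'.support : Set P) ⊆ B) (h : I * J = I' * J') : I = I' := by
  have key : ∀ {I I' J J' : P.IdealSheafData}, I ⊔ J' = ⊤ → I * J = I' * J' → I' ≤ I := by
    intro I I' J J' htop h U
    have h2 : I'.ideal U * (I.ideal U ⊔ J'.ideal U) = I'.ideal U := by
      have := congrFun (congrArg Scheme.IdealSheafData.ideal htop) U
      rw [Scheme.IdealSheafData.ideal_sup, Scheme.IdealSheafData.ideal_top] at this
      rw [show I.ideal U ⊔ J'.ideal U = ⊤ from this, Ideal.mul_top]
    have h3 : I'.ideal U * J'.ideal U = I.ideal U * J.ideal U := by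
      have := congrFun (congrArg Scheme.IdealSheafData.ideal h) U
      rw [Scheme.IdealSheafData.ideal_mul, Scheme.IdealSheafData.ideal_mul] at this
      exact this.symm
    rw [← h2, Ideal.mul_sup, h3]
    exact sup_le Ideal.mul_le_right Ideal.mul_le_left
  exact le_antisymm (key (sup_eq_top _ _ (hAB.mono hI' hJ)) h.symm) (key (sup_eq_top _ _ (hAB.mono hI hJ')) h)

/-- The first piece is open in the union. -/
theorem isOpenImmersion_inclusion (I J : P.IdealSheafData) (h : Disjoint (I.support : Set P) J.support) :
    IsOpenImmersion (Scheme.IdealSheafData.inclusion (CurveDiv.mul_le_left' I J)) := by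
  set a := Scheme.IdealSheafData.inclusion (CurveDiv.mul_le_left' I J) with ha
  have hfac : a ≫ (I * J).subschemeι = I.subschemeι := Scheme.IdealSheafData.inclusion_subschemeι _
  haveI : IsClosedImmersion (a ≫ (I * J).subschemeι) := hfac ▸ inferInstance
  haveI : IsClosedImmersion a := .of_comp a (I * J).subschemeι
  let O : P.Opens := J.support.compl
  let W : (I * J).subscheme.Opens := (I * J).subschemeι ⁻¹ᵁ O
  have hsq : IsPullback a (𝟙 _) (I * J).subschemeι I.subschemeι := by
    haveI : Mono (I * J).subschemeι := inferInstance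
    exact IsPullback.of_isLimit' ⟨by simp [hfac]⟩ (PullbackCone.IsLimit.mk _ (fun s => s.snd)
      (fun s => by rw [← cancel_mono (I * J).subschemeι, Category.assoc, hfac]; exact s.condition.symm)
      (fun s => Category.comp_id _) (fun s m _ hm => by simpa using hm))
  have hker : a.ker = I.comap (I * J).subschemeι := by
    rw [CurveDiv.ker_of_isPullback a (𝟙 _) _ _ hsq, Scheme.IdealSheafData.ker_subschemeι]
  have hJO : J.comap O.ι = ⊤ := by
    rw [← Scheme.IdealSheafData.support_eq_bot_iff, Scheme.IdealSheafData.support_comap]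
    refine Closeds.ext (Set.eq_empty_of_forall_notMem fun x hx => ?_)
    exact x.2 hx
  have hbot : a.ker.comap W.ι = ⊥ := by
    have e : I.comap O.ι = (I * J).comap O.ι := by
      rw [FComplLib.comap_mul, hJO, ← Scheme.IdealSheafData.one_eq_top, mul_one]
    have hW : W.ι ≫ (I * J).subschemeι = ((I * J).subschemeι ∣_ O) ≫ O.ι := (morphismRestrict_ι _ _).symm
    rw [hker, ← Scheme.IdealSheafData.comap_comp, hW, Scheme.IdealSheafData.comap_comp, e,
      ← Scheme.IdealSheafData.comap_comp, ← hW, Scheme.IdealSheafData.comap_comp]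
    have : (I * J).comap (I * J).subschemeι = ⊥ := by
      rw [eq_bot_iff, ← Scheme.IdealSheafData.le_map_iff_comap_le]
      exact (Scheme.IdealSheafData.ker_subschemeι (I * J)).symm.le.trans (Scheme.Hom.le_ker_comp _ _)
    rw [this]
    exact eq_bot_iff.2 ((Scheme.IdealSheafData.le_map_iff_comap_le).1 bot_le)
  haveI : IsIso (pullback.fst W.ι a) := by
    rw [IsClosedImmersion.isIso_iff_ker_eq_bot, Scheme.IdealSheafData.ker_fst_of_isClosedImmersion]
    exact hbot
  haveI : IsIso (pullback.snd W.ι a) := by
    have hsur : Surjective (pullback.snd W.ι a) := ⟨fun x => by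
      have hx : x ∈ Set.range (pullback.snd W.ι a) := by
        rw [Scheme.Pullback.range_snd, Set.mem_preimage, Scheme.Opens.range_ι]
        show (I * J).subschemeι (a x) ∈ O
        rw [← Scheme.Hom.comp_apply, hfac]
        intro hxJ
        exact Set.disjoint_left.1 h (I.range_subschemeι ▸ Set.mem_range_self x) hxJ
      exact hx⟩
    exact isIso_of_isOpenImmersion_of_opensRange_eq_top _ (Opens.ext hsur.surj.range_eq)
  rw [show a = inv (pullback.snd W.ι a) ≫ pullback.fst W.ι a ≫ W.ι by
    rw [pullback.condition, IsIso.inv_hom_id_assoc]]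
  infer_instance

/-- The inclusion of the second piece. -/
theorem isOpenImmersion_inclusion' (I J : P.IdealSheafData) (h : Disjoint (I.support : Set P) J.support) :
    IsOpenImmersion (Scheme.IdealSheafData.inclusion (CurveDiv.mul_le_right' I J)) := by
  have key : ∀ (K : P.IdealSheafData) (hle : K ≤ J), J * I = K →
      IsOpenImmersion (Scheme.IdealSheafData.inclusion hle) := by
    rintro _ hle rfl
    exact isOpenImmersion_inclusion J I h.symm
  exact key _ _ (mul_comm J I)

/-- The map from the disjoint union. -/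
def unionHom (I J : P.IdealSheafData) : I.subscheme ⨿ J.subscheme ⟶ (I * J).subscheme :=
  coprod.desc (Scheme.IdealSheafData.inclusion (CurveDiv.mul_le_left' I J))
    (Scheme.IdealSheafData.inclusion (CurveDiv.mul_le_right' I J))

theorem unionHom_ι (I J : P.IdealSheafData) :
    unionHom I J ≫ (I * J).subschemeι = coprod.desc I.subschemeι J.subschemeι := by
  ext <;> simp [unionHom, Scheme.IdealSheafData.inclusion_subschemeι]

theorem isIso_unionHom (I J : P.IdealSheafData) (h : Disjoint (I.support : Set P) J.support) :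
    IsIso (unionHom I J) := by
  haveI := isOpenImmersion_inclusion I J h
  haveI := isOpenImmersion_inclusion' I J h
  set a := Scheme.IdealSheafData.inclusion (CurveDiv.mul_le_left' I J)
  set b := Scheme.IdealSheafData.inclusion (CurveDiv.mul_le_right' I J)
  have hval : ∀ x, (I * J).subschemeι (a x) = I.subschemeι x := fun x => by
    rw [← Scheme.Hom.comp_apply, Scheme.IdealSheafData.inclusion_subschemeι]
  have hval' : ∀ x, (I * J).subschemeι (b x) = J.subschemeι x := fun x => by
    rw [← Scheme.Hom.comp_apply, Scheme.IdealSheafData.inclusion_subschemeι]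
  have hcompl : IsCompl a.opensRange b.opensRange := by
    refine ⟨disjoint_iff.2 (Opens.ext (Set.eq_empty_of_forall_notMem ?_)),
      codisjoint_iff.2 (Opens.ext (Set.eq_univ_of_forall fun z => ?_))⟩
    · rintro z ⟨⟨x, rfl⟩, ⟨y, hy⟩⟩
      refine Set.disjoint_left.1 h (I.range_subschemeι ▸ Set.mem_range_self x) ?_
      rw [← hval x, ← hy, hval']
      exact J.range_subschemeι ▸ Set.mem_range_self y
    · have hz : (I * J).subschemeι z ∈ ((I * J).support : Set P) :=
        (I * J).range_subschemeι ▸ Set.mem_range_self z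
      rw [Scheme.IdealSheafData.support_mul] at hz
      rcases hz with hz | hz
      · rw [← I.range_subschemeι] at hz
        obtain ⟨x, hx⟩ := hz
        exact Or.inl ⟨x, (I * J).subschemeι.isClosedEmbedding.injective ((hval x).trans hx)⟩
      · rw [← J.range_subschemeι] at hz
        obtain ⟨x, hx⟩ := hz
        exact Or.inr ⟨x, (I * J).subschemeι.isClosedEmbedding.injective ((hval' x).trans hx)⟩
  obtain ⟨hc⟩ := nonempty_isColimit_binaryCofanMk_of_isCompl a b hcompl
  have : unionHom I J = ((coprodIsCoprod _ _).coconePointUniqueUpToIso hc).hom := by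
    refine coprod.hom_ext ?_ ?_
    · exact (coprod.inl_desc _ _).trans
        ((coprodIsCoprod _ _).comp_coconePointUniqueUpToIso_hom hc ⟨.left⟩).symm
    · exact (coprod.inr_desc _ _).trans
        ((coprodIsCoprod _ _).comp_coconePointUniqueUpToIso_hom hc ⟨.right⟩).symm
  rw [this]
  infer_instance

/-- The product is the kernel of the union. -/
theorem mul_eq_ker (I J : P.IdealSheafData) (h : Disjoint (I.support : Set P) J.support) :
    I * J = (coprod.desc I.subschemeι J.subschemeι).ker := by
  haveI := isIso_unionHom I J h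
  rw [← unionHom_ι, Scheme.Hom.ker_comp_of_isIso, Scheme.IdealSheafData.ker_subschemeι]

theorem coprod_desc_of_local (Q : MorphismProperty Scheme.{u}) [IsZariskiLocalAtSource Q]
    {X Y T : Scheme.{u}} (f : X ⟶ T) (g : Y ⟶ T) (hf : Q f) (hg : Q g) : Q (coprod.desc f g) := by
  refine (IsZariskiLocalAtSource.iff_of_openCover (coprodOpenCover.{u, u} X Y)).2 fun i => ?_
  rcases i with i | i
  · show Q (coprod.inl ≫ coprod.desc f g)
    rwa [coprod.inl_desc]
  · show Q (coprod.inr ≫ coprod.desc f g)
    rwa [coprod.inr_desc]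

theorem finrank_coprod {K : Type u} [Field K] {X Y : Scheme.{u}} (f : X ⟶ Spec (CommRingCat.of K))
    (g : Y ⟶ Spec (CommRingCat.of K)) [IsFinite f] [IsFinite g] (s : Spec (CommRingCat.of K)) :
    (coprod.desc f g).finrank s = f.finrank s + g.finrank s := by
  obtain ⟨B, _, _, _, e, he, hB⟩ := AbSchX.FinRank.exists_alg f
  obtain ⟨C, _, _, _, e', he', hC⟩ := AbSchX.FinRank.exists_alg g
  haveI : IsFinite (Spec.map (CommRingCat.ofHom (algebraMap K (B × C)))) :=
    (IsFinite.SpecMap_iff _).2 (RingHom.finite_algebraMap.2 inferInstance)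
  rw [hB, hC, ← Module.finrank_prod, ← AbSchX.FinRank.finrank_Spec_field (k := K) (B := B × C) s,
    ← Scheme.Hom.finrank_comp_left_of_isIso (coprod.map e.hom e'.hom) (coprod.desc f g),
    ← Scheme.Hom.finrank_comp_left_of_isIso (coprodSpec B C)
      (Spec.map (CommRingCat.ofHom (algebraMap K (B × C))))]
  congr 1
  ext
  · rw [coprod.inl_map_assoc, coprod.inl_desc, he, coprodSpec_inl_assoc, ← Spec.map_comp]
    rfl
  · rw [coprod.inr_map_assoc, coprod.inr_desc, he', coprodSpec_inr_assoc, ← Spec.map_comp]
    rfl

/-- **Disjoint unions of finite locally free families.** -/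
theorem deg_mul_disjoint {T : Scheme.{u}} (p : P ⟶ T) {d e : ℕ} (I J : P.IdealSheafData)
    (h : Disjoint (I.support : Set P) J.support) (hI : Mor2.IsFinLocFreeOfDeg d (I.subschemeι ≫ p))
    (hJ : Mor2.IsFinLocFreeOfDeg e (J.subschemeι ≫ p)) :
    Mor2.IsFinLocFreeOfDeg (d + e) ((I * J).subschemeι ≫ p) := by
  haveI := isIso_unionHom I J h
  obtain ⟨⟨fI, flI, fpI⟩, rI⟩ := hI
  obtain ⟨⟨fJ, flJ, fpJ⟩, rJ⟩ := hJ
  have hfac : (I * J).subschemeι ≫ p =
      inv (unionHom I J) ≫ coprod.desc (I.subschemeι ≫ p) (J.subschemeι ≫ p) := by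
    rw [IsIso.eq_inv_comp, ← Category.assoc, unionHom_ι]
    ext <;> simp
  haveI : IsFinite (coprod.desc (I.subschemeι ≫ p) (J.subschemeι ≫ p)) := inferInstance
  haveI : Flat (coprod.desc (I.subschemeι ≫ p) (J.subschemeι ≫ p)) := coprod_desc_of_local @Flat _ _ flI flJ
  haveI : LocallyOfFinitePresentation (coprod.desc (I.subschemeι ≫ p) (J.subschemeι ≫ p)) :=
    coprod_desc_of_local @LocallyOfFinitePresentation _ _ fpI fpJ
  haveI finK : IsFinite ((I * J).subschemeι ≫ p) := by rw [hfac]; infer_instance
  haveI flK : Flat ((I * J).subschemeι ≫ p) := by rw [hfac]; infer_instance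
  haveI fpK : LocallyOfFinitePresentation ((I * J).subschemeι ≫ p) := by rw [hfac]; infer_instance
  refine ⟨⟨finK, flK, fpK⟩, fun s => ?_⟩
  let i := T.fromSpecResidueField s
  let t : Spec (T.residueField s) := IsLocalRing.closedPoint (T.residueField s)
  have ht : i t = s := Scheme.fromSpecResidueField_apply s t
  obtain ⟨⟨finI', flI', fpI'⟩, eI⟩ := And.intro ((CurveDiv.finrank_comap p i I).1) (CurveDiv.finrank_comap p i I).2
  obtain ⟨⟨finJ', flJ', fpJ'⟩, eJ⟩ := And.intro ((CurveDiv.finrank_comap p i J).1) (CurveDiv.finrank_comap p i J).2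
  have eK := (CurveDiv.finrank_comap p i (I * J)).2 t
  rw [ht] at eK
  rw [← eK]
  obtain ⟨finK', flK', -⟩ := (CurveDiv.finrank_comap p i (I * J)).1
  rw [FComplLib.comap_mul] at finK' flK' ⊢
  set I' := I.comap (pullback.fst p i) with hI'
  set J' := J.comap (pullback.fst p i) with hJ'
  have hd' : Disjoint (I'.support : Set ↥(pullback p i)) J'.support := by
    rw [hI', hJ', Scheme.IdealSheafData.support_comap, Scheme.IdealSheafData.support_comap]
    exact h.preimage _
  haveI := isIso_unionHom I' J' hd'
  rw [← Scheme.Hom.finrank_comp_left_of_isIso (unionHom I' J'), ← Category.assoc, unionHom_ι,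
    show coprod.desc I'.subschemeι J'.subschemeι ≫ pullback.snd p i =
      coprod.desc (I'.subschemeι ≫ pullback.snd p i) (J'.subschemeι ≫ pullback.snd p i) by ext <;> simp,
    finrank_coprod (K := T.residueField s), eI, eJ, ht, rI, rJ]

end

end Groth.Agent.ZH85.HilbZeta
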