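import Groth.Agent.ZH85.HilbZeta.Class
import Groth.Agent.ZH85.HilbZeta.Union
import Groth.Agent.HilbDLib.Separated

/-!
# The Hilbert scheme of points cut along the support
-/

set_option autoImplicit false
set_option linter.style.haveILetI false
set_option backward.isDefEq.respectTransparency false
set_option backward.isDefEq.respectTransparency.types false

universe u

open CategoryTheory CategoryTheory.Limits AlgebraicGeometry TopologicalSpace

namespace Groth.Agent.ZH85.HilbZeta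

noncomputable section

/-- A monomorphism of finite type lifts field points of its image. -/
theorem exists_lift_field {Y A : Scheme.{u}} {K : Type u} [Field K] (j : A ⟶ Y) [Mono j] [QuasiCompact j]
    (g : Spec (CommRingCat.of K) ⟶ Y) (h : ∀ t, g t ∈ Set.range j) : ∃ l, l ≫ j = g := by
  haveI : Surjective (pullback.fst g j) := ⟨fun t => by
    have ht : t ∈ Set.range (pullback.fst g j) := by
      rw [Scheme.Pullback.range_fst]
      exact h t
    exact ht⟩
  haveI : Flat (pullback.fst g j) := inferInstance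
  haveI := Flat.isIso_of_surjective_of_mono (pullback.fst g j)
  exact ⟨inv (pullback.fst g j) ≫ pullback.snd g j, by
    rw [Category.assoc, ← pullback.condition, IsIso.inv_hom_id_assoc]⟩

variable {k : Type u} [Field k] {X : Scheme.{u}} (f : X ⟶ Spec (CommRingCat.of k))
  {H : ℕ → Over (Spec (CommRingCat.of k))} (Z : ∀ d, HilbD.Obj f d (H d))

/-- The points of the Hilbert scheme whose subscheme lies over `A`. -/
def Supp (d : ℕ) (A : Set X) : Set ↥(H d).left :=
  {h | ∀ z : (Z d).1.subscheme, ((Z d).1.subschemeι ≫ pullback.snd f (H d).hom) z = h →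
    ((Z d).1.subschemeι ≫ pullback.fst f (H d).hom) z ∈ A}

theorem supp_univ (d : ℕ) : Supp f Z d Set.univ = Set.univ :=
  Set.eq_univ_of_forall fun _ _ _ => Set.mem_univ _

/-- A pulled back family lies over `A` exactly when the classifying map lands in the locus. -/
theorem pull_support_iff (d : ℕ) {T : Over (Spec (CommRingCat.of k))} (g : T ⟶ H d) (A : Set X) :
    ((HilbD.pull f g (Z d).1).support : Set ↥(PicF.XT f T)) ⊆ (pullback.fst f T.hom : PicF.XT f T ⟶ X) ⁻¹' A ↔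
      ∀ t, g.left t ∈ Supp f Z d A := by
  have hfst : PicF.XTmap f g ≫ pullback.fst f (H d).hom = pullback.fst f T.hom :=
    (pullback.lift_fst _ _ _).trans (Category.comp_id _)
  rw [HilbDLib.pull_eq_comap, Scheme.IdealSheafData.support_comap]
  constructor
  · intro h t z hz
    let sq := HilbDLib.isPullback_XTmap f g
    obtain ⟨x, hx1, hx2⟩ := Scheme.Pullback.exists_preimage_pullback (f := PicF.XTproj f (H d)) (g := g.left)
      ((Z d).1.subschemeι z) t ((Scheme.Hom.comp_apply _ _ z).symm.trans hz)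
    have e1 : PicF.XTmap f g (sq.isoPullback.inv x) = (Z d).1.subschemeι z := by
      rw [← Scheme.Hom.comp_apply, sq.isoPullback_inv_fst, hx1]
    have hmem : sq.isoPullback.inv x ∈ (PicF.XTmap f g) ⁻¹' ((Z d).1.support : Set _) := by
      rw [Set.mem_preimage, e1]
      exact (Z d).1.range_subschemeι ▸ Set.mem_range_self z
    have h3 := h hmem
    rw [Set.mem_preimage, ← hfst, Scheme.Hom.comp_apply, e1] at h3
    rw [Scheme.Hom.comp_apply]
    exact h3
  · intro h x hx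
    rw [Set.mem_preimage, ← hfst, Scheme.Hom.comp_apply]
    have hx' : PicF.XTmap f g x ∈ ((Z d).1.support : Set _) := hx
    rw [← (Z d).1.range_subschemeι] at hx'
    obtain ⟨z, hz⟩ := hx'
    have e : g.left (PicF.XTproj f T x) = PicF.XTproj f (H d) (PicF.XTmap f g x) := by
      rw [← Scheme.Hom.comp_apply, ← Scheme.Hom.comp_apply, (HilbDLib.isPullback_XTmap f g).w]
    have := h (PicF.XTproj f T x) z (by rw [Scheme.Hom.comp_apply, hz, e])
    rwa [Scheme.Hom.comp_apply, hz] at this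

variable [LocallyOfFiniteType f] [IsSeparated f] {A B : Set X} (hAB : Disjoint A B)
  {HA HB : ℕ → Scheme.{u}} (jA : ∀ d, HA d ⟶ (H d).left) (jB : ∀ d, HB d ⟶ (H d).left)
  (hjA : ∀ d, Set.range (jA d) = Supp f Z d A) (hjB : ∀ d, Set.range (jB d) = Supp f Z d B)

/-- The product of two pieces. -/
abbrev pieceOver (a b : ℕ) : Over (Spec (CommRingCat.of k)) :=
  Over.mk (pullback.fst (jA a ≫ (H a).hom) (jB b ≫ (H b).hom) ≫ jA a ≫ (H a).hom)

/-- The first classifying map. -/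
abbrev toA (a b : ℕ) : pieceOver jA jB a b ⟶ H a :=
  Over.homMk (pullback.fst (jA a ≫ (H a).hom) (jB b ≫ (H b).hom) ≫ jA a) (Category.assoc _ _ _)

/-- The second classifying map. -/
abbrev toB (a b : ℕ) : pieceOver jA jB a b ⟶ H b :=
  Over.homMk (pullback.snd (jA a ≫ (H a).hom) (jB b ≫ (H b).hom) ≫ jB b)
    ((Category.assoc _ _ _).trans pullback.condition.symm)

include hjA hjB in
theorem piece_support (a b : ℕ) :
    ((HilbD.pull f (toA jA jB a b) (Z a).1).support : Set _) ⊆ (pullback.fst f (pieceOver jA jB a b).hom : _ ⟶ X) ⁻¹' A ∧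
    ((HilbD.pull f (toB jA jB a b) (Z b).1).support : Set _) ⊆ (pullback.fst f (pieceOver jA jB a b).hom : _ ⟶ X) ⁻¹' B := by
  refine ⟨(pull_support_iff f Z a _ A).2 fun t => ?_, (pull_support_iff f Z b _ B).2 fun t => ?_⟩
  · rw [← hjA]
    exact ⟨_, (Scheme.Hom.comp_apply _ _ t).symm⟩
  · rw [← hjB]
    exact ⟨_, (Scheme.Hom.comp_apply _ _ t).symm⟩

include hAB hjA hjB in
theorem piece_deg (a b : ℕ) :
    Mor2.IsFinLocFreeOfDeg (a + b) ((HilbD.pull f (toA jA jB a b) (Z a).1 *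
      HilbD.pull f (toB jA jB a b) (Z b).1).subschemeι ≫ PicF.XTproj f (pieceOver jA jB a b)) := by
  obtain ⟨h1, h2⟩ := piece_support f Z jA jB hjA hjB a b
  exact deg_mul_disjoint _ _ _ ((hAB.preimage _).mono h1 h2)
    (HilbDLib.isFinLocFreeOfDeg_pull f _ _ (Z a).2) (HilbDLib.isFinLocFreeOfDeg_pull f _ _ (Z b).2)

variable (hZ : ∀ d, HilbD.IsUniversal f d (H d) (Z d))

include hAB hjA hjB hZ in
theorem exists_gluing {d a b : ℕ} (hab : a + b = d) :
    ∃ Φ : pieceOver jA jB a b ⟶ H d, HilbD.pull f Φ (Z d).1 =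
      HilbD.pull f (toA jA jB a b) (Z a).1 * HilbD.pull f (toB jA jB a b) (Z b).1 := by
  obtain ⟨Φ, hΦ, -⟩ := hZ d (pieceOver jA jB a b) ⟨_, hab ▸ piece_deg f Z hAB jA jB hjA hjB a b⟩
  exact ⟨Φ, hΦ⟩

include hAB hjA hjB hZ in
/-- Two points of pieces with the same gluing agree. -/
theorem gluing_unique {T : Over (Spec (CommRingCat.of k))} {d a b a' b' : ℕ}
    (Φ : pieceOver jA jB a b ⟶ H d) (Φ' : pieceOver jA jB a' b' ⟶ H d)
    (hΦ : HilbD.pull f Φ (Z d).1 = HilbD.pull f (toA jA jB a b) (Z a).1 * HilbD.pull f (toB jA jB a b) (Z b).1)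
    (hΦ' : HilbD.pull f Φ' (Z d).1 =
      HilbD.pull f (toA jA jB a' b') (Z a').1 * HilbD.pull f (toB jA jB a' b') (Z b').1)
    (u : T ⟶ pieceOver jA jB a b) (v : T ⟶ pieceOver jA jB a' b') (h : u ≫ Φ = v ≫ Φ') :
    HilbD.pull f (u ≫ toA jA jB a b) (Z a).1 = HilbD.pull f (v ≫ toA jA jB a' b') (Z a').1 ∧
      HilbD.pull f (u ≫ toB jA jB a b) (Z b).1 = HilbD.pull f (v ≫ toB jA jB a' b') (Z b').1 := by
  have he : HilbD.pull f (u ≫ toA jA jB a b) (Z a).1 * HilbD.pull f (u ≫ toB jA jB a b) (Z b).1 =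
      HilbD.pull f (v ≫ toA jA jB a' b') (Z a').1 * HilbD.pull f (v ≫ toB jA jB a' b') (Z b').1 := by
    have := congrArg (fun g => HilbD.pull f g (Z d).1) h
    simp only [← HilbDLib.pull_pull, hΦ, hΦ'] at this
    simpa only [HilbDLib.pull_eq_comap, FComplLib.comap_mul, ← Scheme.IdealSheafData.comap_comp,
      ← HilbDLib.XTmap_comp] using this
  have hd : Disjoint ((pullback.fst f T.hom : _ ⟶ X) ⁻¹' A) ((pullback.fst f T.hom : _ ⟶ X) ⁻¹' B) :=
    hAB.preimage _
  have sA : ∀ {a b : ℕ} (u : T ⟶ pieceOver jA jB a b),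
      ((HilbD.pull f (u ≫ toA jA jB a b) (Z a).1).support : Set _) ⊆ (pullback.fst f T.hom : _ ⟶ X) ⁻¹' A :=
    fun {a b} u => (pull_support_iff f Z a _ A).2 fun t => by
      rw [← hjA]
      exact ⟨pullback.fst (jA a ≫ (H a).hom) (jB b ≫ (H b).hom) (u.left t), rfl⟩
  have sB : ∀ {a b : ℕ} (u : T ⟶ pieceOver jA jB a b),
      ((HilbD.pull f (u ≫ toB jA jB a b) (Z b).1).support : Set _) ⊆ (pullback.fst f T.hom : _ ⟶ X) ⁻¹' B :=
    fun {a b} u => (pull_support_iff f Z b _ B).2 fun t => by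
      rw [← hjB]
      exact ⟨pullback.snd (jA a ≫ (H a).hom) (jB b ≫ (H b).hom) (u.left t), rfl⟩
  exact ⟨eq_of_mul_eq hd (sA u) (sA v) (sB u) (sB v) he,
    eq_of_mul_eq hd.symm (sB u) (sB v) (sA u) (sA v) (by rw [mul_comm, he, mul_comm])⟩

include hAB hjA hjB hZ in
theorem mono_gluing [∀ d, Mono (jA d)] [∀ d, Mono (jB d)] {d a b : ℕ} (Φ : pieceOver jA jB a b ⟶ H d)
    (hΦ : HilbD.pull f Φ (Z d).1 = HilbD.pull f (toA jA jB a b) (Z a).1 * HilbD.pull f (toB jA jB a b) (Z b).1) :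
    Mono Φ.left := by
  refine ⟨fun {W} u v h => ?_⟩
  have hw : v ≫ (pieceOver jA jB a b).hom = u ≫ (pieceOver jA jB a b).hom := by
    rw [← Over.w Φ, ← Category.assoc, ← Category.assoc, h]
  let T : Over (Spec (CommRingCat.of k)) := Over.mk (u ≫ (pieceOver jA jB a b).hom)
  let u' : T ⟶ pieceOver jA jB a b := Over.homMk u rfl
  let v' : T ⟶ pieceOver jA jB a b := Over.homMk v hw
  obtain ⟨hA, hB⟩ := gluing_unique f Z hAB jA jB hjA hjB hZ Φ Φ hΦ hΦ u' v' (Over.OverMorphism.ext h)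
  have eA := congrArg CommaMorphism.left
    ((hZ a T ⟨_, HilbDLib.isFinLocFreeOfDeg_pull f (u' ≫ toA jA jB a b) _ (Z a).2⟩).unique rfl hA.symm)
  have eB := congrArg CommaMorphism.left
    ((hZ b T ⟨_, HilbDLib.isFinLocFreeOfDeg_pull f (u' ≫ toB jA jB a b) _ (Z b).2⟩).unique rfl hB.symm)
  apply pullback.hom_ext
  · exact (cancel_mono (jA a)).1 (by rw [Category.assoc, Category.assoc]; exact eA)
  · exact (cancel_mono (jB b)).1 (by rw [Category.assoc, Category.assoc]; exact eB)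

include hAB hjA hjB hZ in
theorem degree_unique {d a b a' b' : ℕ}
    (Φ : pieceOver jA jB a b ⟶ H d) (Φ' : pieceOver jA jB a' b' ⟶ H d)
    (hΦ : HilbD.pull f Φ (Z d).1 = HilbD.pull f (toA jA jB a b) (Z a).1 * HilbD.pull f (toB jA jB a b) (Z b).1)
    (hΦ' : HilbD.pull f Φ' (Z d).1 =
      HilbD.pull f (toA jA jB a' b') (Z a').1 * HilbD.pull f (toB jA jB a' b') (Z b').1)
    (p : (pieceOver jA jB a b).left) (p' : (pieceOver jA jB a' b').left) (h : Φ.left p = Φ'.left p') :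
    a = a' := by
  obtain ⟨q, hq, hq'⟩ := Scheme.Pullback.exists_preimage_pullback p p' h
  let T : Over (Spec (CommRingCat.of k)) :=
    Over.mk (pullback.fst Φ.left Φ'.left ≫ (pieceOver jA jB a b).hom)
  let u : T ⟶ pieceOver jA jB a b := Over.homMk (pullback.fst Φ.left Φ'.left) rfl
  let v : T ⟶ pieceOver jA jB a' b' := Over.homMk (pullback.snd Φ.left Φ'.left) (by
    show _ ≫ (pieceOver jA jB a' b').hom = pullback.fst Φ.left Φ'.left ≫ (pieceOver jA jB a b).hom
    rw [← Over.w Φ, ← Over.w Φ', ← pullback.condition_assoc])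
  obtain ⟨hA, -⟩ := gluing_unique f Z hAB jA jB hjA hjB hZ Φ Φ' hΦ hΦ' u v (Over.OverMorphism.ext pullback.condition)
  have e1 := (HilbDLib.isFinLocFreeOfDeg_pull f (u ≫ toA jA jB a b) _ (Z a).2).2 q
  have e2 := (HilbDLib.isFinLocFreeOfDeg_pull f (v ≫ toA jA jB a' b') _ (Z a').2).2 q
  rw [hA] at e1
  exact e1.symm.trans e2

/-- A family over a field point, split along the support. -/
theorem exists_split {T : Over (Spec (CommRingCat.of k))} [Subsingleton T.left] [IsIntegral T.left]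
    [IsLocallyNoetherian T.left] {d : ℕ} (I : HilbD.Obj f d T)
    [DiscreteTopology I.1.subscheme] (hAB : Disjoint A B)
    (hI : (I.1.support : Set _) ⊆ (pullback.fst f T.hom : _ ⟶ X) ⁻¹' (A ∪ B)) :
    ∃ (a b : ℕ) (IA : HilbD.Obj f a T) (IB : HilbD.Obj f b T),
      (IA.1.support : Set _) ⊆ (pullback.fst f T.hom : _ ⟶ X) ⁻¹' A ∧
      (IB.1.support : Set _) ⊆ (pullback.fst f T.hom : _ ⟶ X) ⁻¹' B ∧ a + b = d ∧ IA.1 * IB.1 = I.1 := by
  let W := I.1.subscheme
  let ιW := I.1.subschemeι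
  let φ : W ⟶ X := ιW ≫ pullback.fst f T.hom
  let UA : W.Opens := ⟨φ ⁻¹' A, isOpen_discrete _⟩
  let UB : W.Opens := ⟨φ ⁻¹' B, isOpen_discrete _⟩
  haveI cA : IsClosedImmersion UA.ι := IsClosedImmersion.of_isPreimmersion _ (isClosed_discrete _)
  haveI cB : IsClosedImmersion UB.ι := IsClosedImmersion.of_isPreimmersion _ (isClosed_discrete _)
  haveI : IsClosedImmersion ιW := inferInstanceAs (IsClosedImmersion I.1.subschemeι)
  let IA := (UA.ι ≫ ιW).ker
  let IB := (UB.ι ≫ ιW).ker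
  obtain ⟨⟨hfin, hfl, hfp⟩, hrk⟩ := I.2
  haveI : IsFinite (ιW ≫ PicF.XTproj f T) := hfin
  have hdeg : ∀ (U : W.Opens) [IsClosedImmersion U.ι], ∃ a,
      Mor2.IsFinLocFreeOfDeg a ((U.ι ≫ ιW).ker.subschemeι ≫ PicF.XTproj f T) := by
    intro U _
    haveI : IsFinite ((U.ι ≫ ιW) ≫ PicF.XTproj f T) := by rw [Category.assoc]; infer_instance
    haveI : Flat ((U.ι ≫ ιW) ≫ PicF.XTproj f T) := inferInstance
    haveI : LocallyOfFinitePresentation ((U.ι ≫ ιW) ≫ PicF.XTproj f T) := inferInstance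
    obtain ⟨a, ha⟩ : ∃ a, ∀ t, ((U.ι ≫ ιW) ≫ PicF.XTproj f T).finrank t = a := by
      rcases isEmpty_or_nonempty T.left with hT | ⟨⟨t₀⟩⟩
      · exact ⟨0, fun t => hT.elim t⟩
      · exact ⟨_, fun t => by rw [Subsingleton.elim t t₀]⟩
    exact ⟨a, (HilbDLib.finLocFreeOfDeg_ker _ _).2 ⟨⟨inferInstance, inferInstance, inferInstance⟩, ha⟩⟩
  obtain ⟨a, ha⟩ := hdeg UA
  obtain ⟨b, hb⟩ := hdeg UB
  have sA : (IA.support : Set _) ⊆ (pullback.fst f T.hom : _ ⟶ X) ⁻¹' A := by
    rw [Scheme.Hom.support_ker, (UA.ι ≫ ιW).isClosedEmbedding.isClosed_range.closure_eq]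
    rintro _ ⟨w, rfl⟩
    exact w.2
  have sB : (IB.support : Set _) ⊆ (pullback.fst f T.hom : _ ⟶ X) ⁻¹' B := by
    rw [Scheme.Hom.support_ker, (UB.ι ≫ ιW).isClosedEmbedding.isClosed_range.closure_eq]
    rintro _ ⟨w, rfl⟩
    exact w.2
  have hd : Disjoint (IA.support : Set ↥(PicF.XT f T)) IB.support := (hAB.preimage _).mono sA sB
  have hcompl : IsCompl UA.ι.opensRange UB.ι.opensRange := by
    rw [Scheme.Opens.opensRange_ι, Scheme.Opens.opensRange_ι]
    refine ⟨disjoint_iff.2 (Opens.ext (hAB.preimage φ).inter_eq), codisjoint_iff.2 (Opens.ext ?_)⟩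
    refine Set.eq_univ_of_forall fun w => hI ?_
    rw [← I.1.range_subschemeι]
    exact Set.mem_range_self w
  obtain ⟨hc⟩ := nonempty_isColimit_binaryCofanMk_of_isCompl UA.ι UB.ι hcompl
  have hiso : IsIso (coprod.desc UA.ι UB.ι) := by
    have : coprod.desc UA.ι UB.ι = ((coprodIsCoprod _ _).coconePointUniqueUpToIso hc).hom := by
      refine coprod.hom_ext ?_ ?_
      · exact (coprod.inl_desc _ _).trans
          ((coprodIsCoprod _ _).comp_coconePointUniqueUpToIso_hom hc ⟨.left⟩).symm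
      · exact (coprod.inr_desc _ _).trans
          ((coprodIsCoprod _ _).comp_coconePointUniqueUpToIso_hom hc ⟨.right⟩).symm
    rw [this]
    infer_instance
  have hprod : IA * IB = I.1 := by
    rw [mul_eq_ker IA IB hd,
      ← Scheme.Hom.ker_comp_of_isIso (coprod.map (UA.ι ≫ ιW).toImage (UB.ι ≫ ιW).toImage)]
    have : coprod.map (UA.ι ≫ ιW).toImage (UB.ι ≫ ιW).toImage ≫ coprod.desc IA.subschemeι IB.subschemeι =
        coprod.desc UA.ι UB.ι ≫ ιW := by
      refine coprod.hom_ext ?_ ?_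
      · rw [coprod.inl_map_assoc, coprod.inl_desc, coprod.inl_desc_assoc]
        exact Scheme.Hom.toImage_imageι _
      · rw [coprod.inr_map_assoc, coprod.inr_desc, coprod.inr_desc_assoc]
        exact Scheme.Hom.toImage_imageι _
    rw [this, Scheme.Hom.ker_comp_of_isIso, Scheme.IdealSheafData.ker_subschemeι]
  refine ⟨a, b, ⟨IA, ha⟩, ⟨IB, hb⟩, sA, sB, ?_, hprod⟩
  have hsum := deg_mul_disjoint (PicF.XTproj f T) IA IB hd ha hb
  rw [hprod] at hsum
  rcases isEmpty_or_nonempty T.left with hT | ⟨⟨t₀⟩⟩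
  · exact absurd hT (not_isEmpty_of_nonempty _)
  · exact (hsum.2 t₀).symm.trans (I.2.2 t₀)

variable {C : Set X} (hC : A ∪ B = C) {HC : ℕ → Scheme.{u}} (jC : ∀ d, HC d ⟶ (H d).left)
  (hjC : ∀ d, Set.range (jC d) = Supp f Z d C)
  [∀ d, Mono (jA d)] [∀ d, Mono (jB d)] [∀ d, Mono (jC d)]
  [∀ d, LocallyOfFiniteType (H d).hom] [∀ d, QuasiCompact (H d).hom]
  [∀ d, LocallyOfFiniteType (jA d)] [∀ d, LocallyOfFiniteType (jB d)] [∀ d, LocallyOfFiniteType (jC d)]
  [∀ d, QuasiCompact (jA d)] [∀ d, QuasiCompact (jB d)] [∀ d, QuasiCompact (jC d)]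

include hAB hjA hjB hZ hC in
/-- Every point supported over `C` comes from a piece. -/
theorem exists_point {d : ℕ} (h : ↥(H d).left) (hh : h ∈ Supp f Z d C) :
    ∃ a b, a + b = d ∧ ∀ Φ : pieceOver jA jB a b ⟶ H d,
      HilbD.pull f Φ (Z d).1 = HilbD.pull f (toA jA jB a b) (Z a).1 * HilbD.pull f (toB jA jB a b) (Z b).1 →
      h ∈ Set.range Φ.left := by
  let T : Over (Spec (CommRingCat.of k)) := Over.mk ((H d).left.fromSpecResidueField h ≫ (H d).hom)
  let g : T ⟶ H d := Over.homMk ((H d).left.fromSpecResidueField h) rfl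
  let K := (H d).left.residueField h
  haveI : Subsingleton T.left := inferInstanceAs (Subsingleton ↥(Spec K))
  haveI : IsIntegral T.left := inferInstanceAs (IsIntegral (Spec K))
  haveI : IsLocallyNoetherian T.left := inferInstanceAs (IsLocallyNoetherian (Spec K))
  let I : HilbD.Obj f d T := ⟨_, HilbDLib.isFinLocFreeOfDeg_pull f g _ (Z d).2⟩
  haveI : DiscreteTopology I.1.subscheme := by
    haveI : IsFinite (I.1.subschemeι ≫ PicF.XTproj f T) := I.2.1.1
    obtain ⟨R, _, _, _, e, -, -⟩ := AbSchX.FinRank.exists_alg (k := K) (I.1.subschemeι ≫ PicF.XTproj f T)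
    haveI : IsArtinianRing R := IsArtinianRing.of_finite K R
    haveI : DiscreteTopology ↥(Spec (CommRingCat.of R)) := inferInstanceAs (DiscreteTopology (PrimeSpectrum R))
    exact (Scheme.homeoOfIso e).discreteTopology
  have hI : (I.1.support : Set _) ⊆ (pullback.fst f T.hom : _ ⟶ X) ⁻¹' (A ∪ B) := by
    rw [hC]
    exact (pull_support_iff f Z d g C).2 fun t => by
      rwa [show g.left t = h from Scheme.fromSpecResidueField_apply _ t]
  obtain ⟨a, b, IA, IB, sA, sB, hab, hprod⟩ := exists_split f I hAB hI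
  obtain ⟨gA, hgA, -⟩ := hZ a T IA
  obtain ⟨gB, hgB, -⟩ := hZ b T IB
  obtain ⟨lA, hlA⟩ := exists_lift_field (K := K) (jA a) gA.left fun t => by
    rw [hjA]; exact (pull_support_iff f Z a gA A).1 (by rw [hgA]; exact sA) t
  obtain ⟨lB, hlB⟩ := exists_lift_field (K := K) (jB b) gB.left fun t => by
    rw [hjB]; exact (pull_support_iff f Z b gB B).1 (by rw [hgB]; exact sB) t
  refine ⟨a, b, hab, fun Φ hΦ => ?_⟩
  have hw : lA ≫ jA a ≫ (H a).hom = lB ≫ jB b ≫ (H b).hom := by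
    rw [← Category.assoc, ← Category.assoc, hlA, hlB, Over.w gA, Over.w gB]
  let l : T ⟶ pieceOver jA jB a b := Over.homMk (pullback.lift lA lB hw) (by
    show pullback.lift lA lB hw ≫ pullback.fst _ _ ≫ jA a ≫ (H a).hom = T.hom
    rw [pullback.lift_fst_assoc, ← Category.assoc, hlA, Over.w gA])
  have eA : l ≫ toA jA jB a b = gA := Over.OverMorphism.ext (by
    show pullback.lift lA lB hw ≫ pullback.fst _ _ ≫ jA a = gA.left
    rw [pullback.lift_fst_assoc, hlA])
  have eB : l ≫ toB jA jB a b = gB := Over.OverMorphism.ext (by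
    show pullback.lift lA lB hw ≫ pullback.snd _ _ ≫ jB b = gB.left
    rw [pullback.lift_snd_assoc, hlB])
  have hlΦ : l ≫ Φ = g := by
    refine (hZ d T I).unique ?_ rfl
    rw [← HilbDLib.pull_pull, hΦ, HilbDLib.pull_eq_comap, FComplLib.comap_mul, ← HilbDLib.pull_eq_comap,
      ← HilbDLib.pull_eq_comap, HilbDLib.pull_pull, HilbDLib.pull_pull, eA, eB, hgA, hgB, hprod]
  refine ⟨l.left (IsLocalRing.closedPoint K), ?_⟩
  rw [← Scheme.Hom.comp_apply, ← Over.comp_left, hlΦ]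
  exact Scheme.fromSpecResidueField_apply _ _

include hAB hjA hjB hjC hZ hC in
/-- **Cutting the Hilbert scheme along the support.** -/
theorem cl_supp (d : ℕ) :
    K0Var.cl (jC d ≫ (H d).hom) =
      ∑ ab ∈ Finset.HasAntidiagonal.antidiagonal d, K0Var.cl (jA ab.1 ≫ (H ab.1).hom) * K0Var.cl (jB ab.2 ≫ (H ab.2).hom) := by
  classical
  rw [← Finset.sum_coe_sort (Finset.HasAntidiagonal.antidiagonal d)]
  have hΦ0 : ∀ ab : ↥(Finset.HasAntidiagonal.antidiagonal d), ∃ Φ : pieceOver jA jB ab.1.1 ab.1.2 ⟶ H d,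
      HilbD.pull f Φ (Z d).1 = HilbD.pull f (toA jA jB ab.1.1 ab.1.2) (Z ab.1.1).1 *
        HilbD.pull f (toB jA jB ab.1.1 ab.1.2) (Z ab.1.2).1 := fun ab =>
    exists_gluing f Z hAB jA jB hjA hjB hZ (Finset.HasAntidiagonal.mem_antidiagonal.1 ab.2)
  choose Φ hΦ using hΦ0
  haveI : ∀ ab, Mono (Φ ab).left := fun ab => mono_gluing f Z hAB jA jB hjA hjB hZ _ (hΦ ab)
  have hrange : ∀ ab, Set.range (Φ ab).left ⊆ Set.range (jC d) := by
    rintro ab _ ⟨t, rfl⟩
    rw [hjC]
    refine (pull_support_iff f Z d (Φ ab) C).1 ?_ t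
    obtain ⟨h1, h2⟩ := piece_support f Z jA jB hjA hjB ab.1.1 ab.1.2
    rw [hΦ ab, Scheme.IdealSheafData.support_mul, ← hC, Closeds.coe_sup, Set.preimage_union]
    exact Set.union_subset_union h1 h2
  let m : ∀ ab : ↥(Finset.HasAntidiagonal.antidiagonal d), pullback (Φ ab).left (jC d) ⟶ HC d := fun ab =>
    pullback.snd (Φ ab).left (jC d)
  have hm : ∀ ab, m ab ≫ jC d ≫ (H d).hom = pullback.fst (Φ ab).left (jC d) ≫ (pieceOver jA jB ab.1.1 ab.1.2).hom :=
    fun ab => by rw [← pullback.condition_assoc, Over.w (Φ ab)]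
  haveI : ∀ a b, LocallyOfFiniteType (pieceOver jA jB a b).hom := fun a b =>
    inferInstanceAs (LocallyOfFiniteType (pullback.fst (jA a ≫ (H a).hom) (jB b ≫ (H b).hom) ≫ jA a ≫ (H a).hom))
  haveI : ∀ a b, QuasiCompact (pieceOver jA jB a b).hom := fun a b =>
    inferInstanceAs (QuasiCompact (pullback.fst (jA a ≫ (H a).hom) (jB b ≫ (H b).hom) ≫ jA a ≫ (H a).hom))
  haveI : ∀ ab, LocallyOfFiniteType (m ab ≫ jC d ≫ (H d).hom) := fun ab => by rw [hm]; infer_instance
  haveI : ∀ ab, QuasiCompact (m ab ≫ jC d ≫ (H d).hom) := fun ab => by rw [hm]; infer_instance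
  rw [cl_eq_sum (jC d ≫ (H d).hom) m ?_]
  · refine Finset.sum_congr rfl fun ab _ => ?_
    rw [← K0Var.cl_mul]
    change _ = K0Var.cl (pieceOver jA jB ab.1.1 ab.1.2).hom
    have hs : Function.Surjective (pullback.fst (Φ ab).left (jC d)) := fun t => by
      have : t ∈ Set.range (pullback.fst (Φ ab).left (jC d)) := by
        rw [Scheme.Pullback.range_fst]
        exact hrange ab ⟨t, rfl⟩
      exact this
    have hc := cl_eq_sum (pieceOver jA jB ab.1.1 ab.1.2).hom (fun _ : Unit => pullback.fst (Φ ab).left (jC d))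
      fun x => ⟨(), Set.mem_range.2 (hs x), fun _ _ => rfl⟩
    rw [Fintype.sum_unique] at hc
    simp only [hm]
    exact hc.symm
  intro x
  have hx : jC d x ∈ Supp f Z d C := hjC d ▸ Set.mem_range_self x
  obtain ⟨a, b, hab, hp⟩ := exists_point f Z hAB jA jB hjA hjB hZ hC (jC d x) hx
  refine ⟨⟨(a, b), Finset.HasAntidiagonal.mem_antidiagonal.2 hab⟩, ?_, fun ab hab' => ?_⟩
  · simp only [m]
    rw [Scheme.Pullback.range_snd]
    exact hp _ (hΦ ⟨(a, b), Finset.HasAntidiagonal.mem_antidiagonal.2 hab⟩)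
  · simp only [m] at hab'
    rw [Scheme.Pullback.range_snd] at hab'
    obtain ⟨p, hp'⟩ := hab'
    obtain ⟨p₀, hp₀⟩ := hp _ (hΦ ⟨(a, b), Finset.HasAntidiagonal.mem_antidiagonal.2 hab⟩)
    have ha := degree_unique f Z hAB jA jB hjA hjB hZ _ _ (hΦ ab) (hΦ ⟨(a, b), _⟩) p p₀ (hp'.trans hp₀.symm)
    have hb := Finset.HasAntidiagonal.mem_antidiagonal.1 ab.2
    exact Subtype.ext (Prod.ext ha (by simp only at ha ⊢; omega))

end

end Groth.Agent.ZH85.HilbZeta
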